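import Mathlib

/-!
# Half-transitive automorphism groups
-/

namespace Cfsg.Agent.HalfTrans

open Subgroup
open scoped Pointwise

variable {G : Type*} [Group G] [Finite G]

/-- If all stabilisers have order `s`, the order of the group divides `|X| * s`. -/
theorem card_dvd_mul_of_stabilizer {U X : Type*} [Group U] [Finite U] [Finite X] [MulAction U X]
    {s : ℕ} (h : ∀ x : X, Nat.card (MulAction.stabilizer U x) = s) : Nat.card U ∣ Nat.card X * s := by
  classical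
  have := Fintype.ofFinite (MulAction.orbitRel.Quotient U X)
  rw [Nat.card_congr (MulAction.selfEquivSigmaOrbits U X), Nat.card_sigma, Finset.sum_mul]
  refine Finset.dvd_sum fun ω _ => ?_
  obtain ⟨x, rfl⟩ := Quotient.exists_rep ω
  rw [← h (Quotient.out (Quotient.mk (MulAction.orbitRel U X) x)), Nat.card_coe_set_eq,
    ← MulAction.index_stabilizer, mul_comm, Subgroup.card_mul_index]

/-- Conjugation of a subgroup on an invariant set. -/
theorem card_dvd_ncard (U : Subgroup G) (X : Set G) (hX : ∀ g ∈ U, ∀ y ∈ X, g * y * g⁻¹ ∈ X)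
    {s : ℕ} (h : ∀ y ∈ X, Nat.card (U ⊓ centralizer {y} : Subgroup G) = s) :
    Nat.card U ∣ X.ncard * s := by
  let instX : MulAction U X :=
    { smul := fun g y => ⟨(g : G) * y * (g : G)⁻¹, hX g g.2 y y.2⟩
      one_smul := fun y => Subtype.ext (by show (1 : G) * y * (1 : G)⁻¹ = y; group)
      mul_smul := fun g g' y => Subtype.ext (by
        show (g : G) * g' * y * ((g : G) * g')⁻¹ = (g : G) * ((g' : G) * y * (g' : G)⁻¹) * (g : G)⁻¹
        group) }
  rw [← Nat.card_coe_set_eq]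
  refine card_dvd_mul_of_stabilizer (U := U) (X := X) fun y => ?_
  rw [← h y y.2, ← Subgroup.card_map_of_injective U.subtype_injective]
  congr 1
  have : (MulAction.stabilizer U y).map U.subtype = U ⊓ centralizer {(y : G)} := by
    ext g
    rw [Subgroup.mem_inf, mem_centralizer_singleton_iff]
    constructor
    · rintro ⟨u, hu, rfl⟩
      refine ⟨u.2, ?_⟩
      have hu' : (u : G) * y * (u : G)⁻¹ = y := congrArg Subtype.val hu
      calc (u : G) * y = (u : G) * y * (u : G)⁻¹ * u := by group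
        _ = y * u := by rw [hu']
    · rintro ⟨hg, hgy⟩
      exact ⟨⟨g, hg⟩, Subtype.ext (show g * (y : G) * g⁻¹ = y by rw [hgy, mul_inv_cancel_right]), rfl⟩
  rw [this]

/-- The data: `K` acts half-transitively by conjugation on the nonidentity elements of `N`. -/
structure HalfData (G : Type*) [Group G] where
  N : Subgroup G
  K : Subgroup G
  s : ℕ
  normN : ∀ g, ∀ x ∈ N, g * x * g⁻¹ ∈ N
  const : ∀ x ∈ N, x ≠ 1 → Nat.card (K ⊓ centralizer {x} : Subgroup G) = s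
  faith : ∀ g ∈ K, (∀ x ∈ N, g * x = x * g) → g = 1
  nontriv : ∃ x ∈ N, x ≠ 1 ∧ K ⊓ centralizer {x} ≠ ⊥

variable (D : HalfData G)

/-- The stabiliser of `x`. -/
def HalfData.S (x : G) : Subgroup G := D.K ⊓ centralizer {x}

theorem HalfData.s_pos : 0 < D.s := by
  obtain ⟨x, hx, hx1, -⟩ := D.nontriv
  rw [← D.const x hx hx1]
  exact Nat.card_pos

theorem HalfData.S_eq_of_le {x y : G} (hx : x ∈ D.N) (hx1 : x ≠ 1) (hy : y ∈ D.N) (hy1 : y ≠ 1)
    (h : D.S x ≤ D.S y) : D.S x = D.S y :=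
  Subgroup.eq_of_le_of_card_ge h (le_of_eq ((D.const y hy hy1).trans (D.const x hx hx1).symm))

/-- An invariant set whose size is coprime to a multiple `m` of the orbit size is fixed. -/
theorem HalfData.fixes (U : Subgroup G) (hU : U ≤ D.K) (X : Set G)
    (hX : ∀ g ∈ U, ∀ y ∈ X, g * y * g⁻¹ ∈ X) (hXN : ∀ y ∈ X, y ∈ D.N ∧ y ≠ 1)
    (hSU : ∀ y ∈ X, D.S y ≤ U) (m : ℕ) (hm : Nat.card D.K ∣ m * D.s)
    (hcop : X.ncard.Coprime m) : ∀ y ∈ X, U ≤ centralizer {y} := by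
  intro y hy
  have hUs : ∀ z ∈ X, U ⊓ centralizer {z} = D.S z := fun z hz =>
    le_antisymm (inf_le_inf_right _ hU) (le_inf (hSU z hz) inf_le_right)
  have h1 : Nat.card U ∣ X.ncard * D.s := card_dvd_ncard U X hX fun z hz => by
    rw [hUs z hz]; exact D.const z (hXN z hz).1 (hXN z hz).2
  have h3 := Nat.dvd_gcd h1 ((Subgroup.card_dvd_of_le hU).trans hm)
  rw [Nat.gcd_mul_right, hcop, one_mul] at h3
  have heq : U ⊓ centralizer {y} = U := Subgroup.eq_of_le_of_card_ge inf_le_left (by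
    rw [hUs y hy, show Nat.card (D.S y) = D.s from D.const y (hXN y hy).1 (hXN y hy).2]
    exact Nat.le_of_dvd D.s_pos h3)
  exact heq ▸ inf_le_right

theorem HalfData.card_K_dvd (M : Subgroup G) (hMN : M ≤ D.N)
    (hM : ∀ g ∈ D.K, ∀ x ∈ M, g * x * g⁻¹ ∈ M) : Nat.card D.K ∣ (Nat.card M - 1) * D.s := by
  have hc : ((M : Set G) \ {1}).ncard = Nat.card M - 1 := by
    rw [Set.ncard_sdiff_singleton_of_mem (one_mem M), ← Nat.card_coe_set_eq]; rfl
  rw [← hc]
  refine card_dvd_ncard D.K _ ?_ fun y hy => D.const y (hMN hy.1) hy.2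
  rintro g hg y ⟨hy, hy1⟩
  exact ⟨hM g hg y hy, fun h => hy1 (conj_eq_one_iff.1 h)⟩

theorem HalfData.exists_S_ne : ∃ x ∈ D.N, ∃ y ∈ D.N, x ≠ 1 ∧ y ≠ 1 ∧ D.S x ≠ D.S y := by
  by_contra hall
  push Not at hall
  obtain ⟨x, hx, hx1, hne⟩ := D.nontriv
  obtain ⟨g, hg, hg1⟩ := (Subgroup.bot_or_exists_ne_one _).resolve_left hne
  refine hg1 (D.faith g hg.1 fun y hy => ?_)
  rcases eq_or_ne y 1 with rfl | hy1
  · rw [mul_one, one_mul]
  · have : g ∈ D.S y := hall x hx y hy hx1 hy1 ▸ (show g ∈ D.S x from hg)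
    exact mem_centralizer_singleton_iff.1 this.2

/-- There are no proper invariant subgroups. -/
theorem HalfData.irreducible (M : Subgroup G) (hMN : M ≤ D.N)
    (hM : ∀ g ∈ D.K, ∀ x ∈ M, g * x * g⁻¹ ∈ M) (hne : M ≠ ⊥) : M = D.N := by
  by_contra hproper
  obtain ⟨x₀, hx₀, hx₀M⟩ := SetLike.exists_of_lt (lt_of_le_of_ne hMN hproper)
  obtain ⟨m₀, hm₀, hm₀1⟩ := (Subgroup.bot_or_exists_ne_one _).resolve_left hne
  have key : ∀ x ∈ D.N, x ∉ M → ∀ m ∈ M, m ≠ 1 → D.S x = D.S m := by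
    intro x hx hxM m hm hm1
    let U : Subgroup G :=
      { carrier := {g | g ∈ D.K ∧ x⁻¹ * (g * x * g⁻¹) ∈ M}
        one_mem' := ⟨one_mem _, by rw [show x⁻¹ * (1 * x * (1 : G)⁻¹) = 1 by group]; exact one_mem _⟩
        mul_mem' := fun {g h} hg hh => ⟨mul_mem hg.1 hh.1, by
          rw [show x⁻¹ * (g * h * x * (g * h)⁻¹) =
            x⁻¹ * (g * x * g⁻¹) * (g * (x⁻¹ * (h * x * h⁻¹)) * g⁻¹) by group]
          exact mul_mem hg.2 (hM g hg.1 _ hh.2)⟩
        inv_mem' := fun {g} hg => ⟨inv_mem hg.1, by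
          rw [show x⁻¹ * (g⁻¹ * x * g⁻¹⁻¹) = g⁻¹ * (x⁻¹ * (g * x * g⁻¹))⁻¹ * g⁻¹⁻¹ by group]
          exact hM g⁻¹ (inv_mem hg.1) _ (inv_mem hg.2)⟩ }
    have hfix : ∀ z ∈ (fun m => x * m) '' (M : Set G), U ≤ centralizer {z} := by
      refine D.fixes U (fun g hg => hg.1) _ ?_ ?_ ?_ _ (D.card_K_dvd M hMN hM) ?_
      · rintro g hg _ ⟨b, hb, rfl⟩
        refine ⟨x⁻¹ * (g * x * g⁻¹) * (g * b * g⁻¹), mul_mem hg.2 (hM g hg.1 b hb), ?_⟩
        group
      · rintro _ ⟨b, hb, rfl⟩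
        refine ⟨mul_mem hx (hMN hb), fun h => hxM ?_⟩
        have h' : x = b⁻¹ := eq_inv_of_mul_eq_one_left h
        exact h' ▸ inv_mem hb
      · rintro _ ⟨b, hb, rfl⟩ g ⟨hgK, hg⟩
        refine ⟨hgK, ?_⟩
        have hgz : g * (x * b) * g⁻¹ = x * b := by
          rw [mem_centralizer_singleton_iff.1 hg, mul_inv_cancel_right]
        rw [show x⁻¹ * (g * x * g⁻¹) = x⁻¹ * (g * (x * b) * g⁻¹) * (g * b * g⁻¹)⁻¹ by group, hgz,
          inv_mul_cancel_left]
        exact mul_mem hb (inv_mem (hM g hgK b hb))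
      · rw [Set.ncard_image_of_injective _ (mul_right_injective x), ← Nat.card_coe_set_eq]
        exact (Nat.coprime_self_sub_right Nat.card_pos).2 (Nat.coprime_one_right _)
    have hxU : D.S x ≤ U := fun g hg => ⟨hg.1, by
      rw [show g * x * g⁻¹ = x by rw [mem_centralizer_singleton_iff.1 hg.2, mul_inv_cancel_right],
        inv_mul_cancel]
      exact one_mem M⟩
    refine D.S_eq_of_le hx (fun h => hxM (h ▸ one_mem M)) (hMN hm) hm1 fun g hg => ⟨hg.1, mem_centralizer_singleton_iff.2 ?_⟩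
    have h1 := mem_centralizer_singleton_iff.1 hg.2
    have h2 := mem_centralizer_singleton_iff.1 (hfix _ ⟨m, hm, rfl⟩ (hxU hg))
    simp only at h2
    calc g * m = x⁻¹ * (x * g * m) := by group
      _ = x⁻¹ * (g * (x * m)) := by rw [← h1, mul_assoc]
      _ = m * g := by rw [h2]; group
  have hall : ∀ y ∈ D.N, y ≠ 1 → D.S y = D.S x₀ := by
    intro y hy hy1
    by_cases hyM : y ∈ M
    · exact (key x₀ hx₀ hx₀M y hyM hy1).symm
    · rw [key y hy hyM m₀ hm₀ hm₀1, key x₀ hx₀ hx₀M m₀ hm₀ hm₀1]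
  obtain ⟨x, hx, y, hy, hx1, hy1, hne'⟩ := D.exists_S_ne
  exact hne' ((hall x hx hx1).trans (hall y hy hy1).symm)

/-- Conjugate elements of `N` have equal stabilisers. -/
theorem HalfData.S_conj {x n : G} (hx : x ∈ D.N) (hx1 : x ≠ 1) (hn : n ∈ D.N) :
    D.S (n * x * n⁻¹) = D.S x := by
  let X : Set G := (fun n : G => n * x * n⁻¹) '' (D.N : Set G)
  have hXN : ∀ y ∈ X, y ∈ D.N ∧ y ≠ 1 := by
    rintro _ ⟨a, ha, rfl⟩
    exact ⟨mul_mem (mul_mem ha hx) (inv_mem ha), fun h => hx1 (conj_eq_one_iff.1 h)⟩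
  have hclass : ∀ g, (g * x * g⁻¹ ∈ X) → ∀ y ∈ X, g * y * g⁻¹ ∈ X := by
    rintro g ⟨b, hb, hgb⟩ _ ⟨a, ha, rfl⟩
    have hgb' : b * x * b⁻¹ = g * x * g⁻¹ := hgb
    refine ⟨g * a * g⁻¹ * b, mul_mem (D.normN g a ha) hb, ?_⟩
    calc g * a * g⁻¹ * b * x * (g * a * g⁻¹ * b)⁻¹ = g * a * g⁻¹ * (b * x * b⁻¹) * (g * a * g⁻¹)⁻¹ := by group
      _ = _ := by rw [hgb']; group
  let U : Subgroup G :=
    { carrier := {g | g ∈ D.K ∧ g * x * g⁻¹ ∈ X}
      one_mem' := ⟨one_mem _, ⟨1, one_mem D.N, rfl⟩⟩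
      mul_mem' := fun {g h} hg hh => ⟨mul_mem hg.1 hh.1, by
        rw [show g * h * x * (g * h)⁻¹ = g * (h * x * h⁻¹) * g⁻¹ by group]
        exact hclass g hg.2 _ hh.2⟩
      inv_mem' := fun {g} hg => ⟨inv_mem hg.1, by
        obtain ⟨b, hb, hgb⟩ := hg.2
        have hgb' : b * x * b⁻¹ = g * x * g⁻¹ := hgb
        refine ⟨(g⁻¹ * b * g)⁻¹, inv_mem (by simpa using D.normN g⁻¹ b hb), ?_⟩
        calc (g⁻¹ * b * g)⁻¹ * x * (g⁻¹ * b * g)⁻¹⁻¹ = g⁻¹ * b⁻¹ * (g * x * g⁻¹) * b * g := by group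
          _ = g⁻¹ * x * g⁻¹⁻¹ := by rw [← hgb']; group⟩ }
  have hfix : ∀ z ∈ X, U ≤ centralizer {z} := by
    refine D.fixes U (fun g hg => hg.1) X (fun g hg => hclass g hg.2) hXN ?_ _
      (D.card_K_dvd D.N le_rfl fun g _ => D.normN g) ?_
    · rintro _ ⟨a, ha, rfl⟩ g ⟨hgK, hg⟩
      refine ⟨hgK, (g * a * g⁻¹)⁻¹ * a, mul_mem (inv_mem (D.normN g a ha)) ha, ?_⟩
      have h' : g * (a * x * a⁻¹) * g⁻¹ = a * x * a⁻¹ := by
        rw [mem_centralizer_singleton_iff.1 hg, mul_inv_cancel_right]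
      calc (g * a * g⁻¹)⁻¹ * a * x * ((g * a * g⁻¹)⁻¹ * a)⁻¹
          = (g * a * g⁻¹)⁻¹ * (a * x * a⁻¹) * (g * a * g⁻¹) := by group
        _ = (g * a * g⁻¹)⁻¹ * (g * (a * x * a⁻¹) * g⁻¹) * (g * a * g⁻¹) := by rw [h']
        _ = _ := by group
    · have hcard : X.ncard ∣ Nat.card D.N := by
        have : X = (fun a : ↥D.N => (a : G)) '' (MulAction.orbit (ConjAct D.N) (⟨x, hx⟩ : D.N)) := by
          ext y
          constructor
          · rintro ⟨a, ha, rfl⟩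
            exact ⟨_, ⟨ConjAct.toConjAct ⟨a, ha⟩, rfl⟩, rfl⟩
          · rintro ⟨_, ⟨c, rfl⟩, rfl⟩
            exact ⟨_, (ConjAct.ofConjAct c).2, rfl⟩
        rw [this, Set.ncard_image_of_injective _ Subtype.val_injective, ← MulAction.index_stabilizer]
        exact Subgroup.index_dvd_card _
      exact Nat.Coprime.coprime_dvd_left hcard ((Nat.coprime_self_sub_right Nat.card_pos).2 (Nat.coprime_one_right _))
  have hmem : n * x * n⁻¹ ∈ X := ⟨n, hn, rfl⟩
  refine (D.S_eq_of_le hx hx1 (hXN _ hmem).1 (hXN _ hmem).2 fun g hg => ⟨hg.1, hfix _ hmem ⟨hg.1, 1, one_mem D.N, ?_⟩⟩).symm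
  show 1 * x * (1 : G)⁻¹ = g * x * g⁻¹
  rw [mem_centralizer_singleton_iff.1 hg.2]
  group

/-- All nonidentity elements have the same prime order. -/
theorem HalfData.exists_prime : ∃ p : ℕ, p.Prime ∧ ∀ x ∈ D.N, x ≠ 1 → orderOf x = p := by
  let A : G → Subgroup G := fun x => D.N ⊓ centralizer (D.S x : Set G)
  have hSmem : ∀ {x y : G}, y ∈ A x → D.S x ≤ D.S y := fun {x y} hy g hg =>
    ⟨hg.1, mem_centralizer_singleton_iff.2 (mem_centralizer_iff.1 hy.2 g hg)⟩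
  have hAS : ∀ {x y : G}, y ∈ D.N → D.S x ≤ D.S y → y ∈ A x := fun {x y} hy h =>
    ⟨hy, mem_centralizer_iff.2 fun g hg => mem_centralizer_singleton_iff.1 (h hg).2⟩
  have hAn : ∀ x n a, n ∈ D.N → a ∈ A x → n * a * n⁻¹ ∈ A x := by
    intro x n a hn ha
    rcases eq_or_ne a 1 with rfl | ha1
    · rw [mul_one, mul_inv_cancel]; exact one_mem _
    · exact hAS (mul_mem (mul_mem hn ha.1) (inv_mem hn)) ((D.S_conj ha.1 ha1 hn).symm ▸ hSmem ha)
  have hsep : ∀ u v, u ∈ D.N → v ∈ D.N → u ≠ 1 → v ≠ 1 → D.S u ≠ D.S v → u ^ orderOf v = 1 := by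
    intro u v hu hv hu1 hv1 hne
    have hcomm : Commute u v := by
      set c := u * v * u⁻¹ * v⁻¹ with hc
      have hcu : c ∈ A u := by
        rw [hc, show u * v * u⁻¹ * v⁻¹ = u * (v * u⁻¹ * v⁻¹) by group]
        exact mul_mem (hAS hu le_rfl) (hAn u v _ hv (inv_mem (hAS hu le_rfl)))
      have hcv : c ∈ A v := mul_mem (hAn v u v hu (hAS hv le_rfl)) (inv_mem (hAS hv le_rfl))
      by_contra hnc
      have hc1 : c ≠ 1 := fun h => hnc (show u * v = v * u by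
        calc u * v = c * (v * u) := by rw [hc]; group
          _ = v * u := by rw [h, one_mul])
      exact hne ((D.S_eq_of_le hu hu1 hcu.1 hc1 (hSmem hcu)).trans
        (D.S_eq_of_le hv hv1 hcu.1 hc1 (hSmem hcv)).symm)
    by_contra hpow
    have hwN : u * v ∈ D.N := mul_mem hu hv
    have hw1 : u * v ≠ 1 := fun h => hne (by
      have hv' : v = u⁻¹ := eq_inv_of_mul_eq_one_right h
      exact D.S_eq_of_le hu hu1 hv hv1 (fun g hg => ⟨hg.1, mem_centralizer_singleton_iff.2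
        (by rw [hv']; exact (show Commute g u from mem_centralizer_singleton_iff.1 hg.2).inv_right)⟩))
    have hupN : u ^ orderOf v ∈ D.N := pow_mem hu _
    have e1 : D.S (u * v) = D.S (u ^ orderOf v) := D.S_eq_of_le hwN hw1 hupN hpow fun g hg =>
      ⟨hg.1, mem_centralizer_singleton_iff.2 (by
        have := (show Commute g (u * v) from mem_centralizer_singleton_iff.1 hg.2).pow_right (orderOf v)
        rwa [hcomm.mul_pow, pow_orderOf_eq_one, mul_one] at this)⟩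
    have e2 : D.S u = D.S (u ^ orderOf v) := D.S_eq_of_le hu hu1 hupN hpow fun g hg =>
      ⟨hg.1, mem_centralizer_singleton_iff.2
        ((show Commute g u from mem_centralizer_singleton_iff.1 hg.2).pow_right _)⟩
    refine hne (D.S_eq_of_le hu hu1 hv hv1 fun g hg => ⟨hg.1, mem_centralizer_singleton_iff.2 ?_⟩)
    have h1 : g ∈ D.S (u * v) := e1 ▸ e2 ▸ hg
    have h2 : Commute g u := mem_centralizer_singleton_iff.1 hg.2
    have h3 : Commute g (u * v) := mem_centralizer_singleton_iff.1 h1.2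
    have := h2.inv_right.mul_right h3
    rwa [inv_mul_cancel_left] at this
  have hord : ∀ u v, u ∈ D.N → v ∈ D.N → u ≠ 1 → v ≠ 1 → D.S u ≠ D.S v → orderOf u = orderOf v :=
    fun u v hu hv hu1 hv1 hne => Nat.dvd_antisymm (orderOf_dvd_of_pow_eq_one (hsep u v hu hv hu1 hv1 hne))
      (orderOf_dvd_of_pow_eq_one (hsep v u hv hu hv1 hu1 hne.symm))
  obtain ⟨x, hx, y, hy, hx1, hy1, hne⟩ := D.exists_S_ne
  have hall : ∀ z ∈ D.N, z ≠ 1 → orderOf z = orderOf x := by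
    intro z hz hz1
    by_cases h : D.S z = D.S x
    · rw [hord z y hz hy hz1 hy1 (h ▸ hne), hord x y hx hy hx1 hy1 hne]
    · exact hord z x hz hx hz1 hx1 h
  obtain ⟨p, hp, hpd⟩ := Nat.exists_prime_and_dvd (show orderOf x ≠ 1 from fun h => hx1 (orderOf_eq_one_iff.1 h))
  refine ⟨p, hp, fun z hz hz1 => ?_⟩
  have hx0 := (orderOf_pos x).ne'
  have hxp : orderOf (x ^ (orderOf x / p)) = p := by
    rw [orderOf_pow_of_dvd (Nat.div_pos (Nat.le_of_dvd (orderOf_pos x) hpd) hp.pos).ne'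
      (Nat.div_dvd_of_dvd hpd), Nat.div_div_self hpd hx0]
  have hne1 : x ^ (orderOf x / p) ≠ 1 := fun h => hp.ne_one (by rw [← hxp, h, orderOf_one])
  rw [hall z hz hz1, ← hall _ (pow_mem hx _) hne1, hxp]

/-- The conclusion. -/
theorem HalfData.result : (∃ p : ℕ, p.Prime ∧ IsMulCommutative D.N ∧ ∀ x ∈ D.N, x ^ p = 1) := by
  obtain ⟨p, hp, hall⟩ := D.exists_prime
  have := Fact.mk hp
  have hpow : ∀ x ∈ D.N, x ^ p = 1 := fun x hx => by
    rcases eq_or_ne x 1 with rfl | h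
    · exact one_pow p
    · exact hall x hx h ▸ pow_orderOf_eq_one x
  refine ⟨p, hp, ?_, hpow⟩
  obtain ⟨x, hx, hx1, -⟩ := D.nontriv
  have : Nontrivial D.N := ⟨⟨⟨x, hx⟩, 1, fun h => hx1 (congrArg Subtype.val h)⟩⟩
  have hpg : IsPGroup p D.N := fun a => ⟨1, Subtype.ext (by rw [pow_one]; exact hpow a a.2)⟩
  have hne : (center D.N).map D.N.subtype ≠ ⊥ := fun h => by
    have := hpg.center_nontrivial
    rw [Subgroup.map_eq_bot_iff_of_injective _ D.N.subtype_injective] at h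
    exact (Subgroup.nontrivial_iff_ne_bot _).1 this h
  have heq := D.irreducible _ (map_subtype_le _) (fun g _ z hz => by
    obtain ⟨c, hc, rfl⟩ := hz
    refine ⟨⟨g * c * g⁻¹, D.normN g c c.2⟩, Subgroup.mem_center_iff.2 fun a => Subtype.ext ?_, rfl⟩
    have h := congrArg (fun w : D.N => g * (w : G) * g⁻¹)
      (Subgroup.mem_center_iff.1 hc ⟨g⁻¹ * a * g, by simpa using D.normN g⁻¹ a a.2⟩)
    show (a : G) * (g * c * g⁻¹) = g * c * g⁻¹ * a
    calc (a : G) * (g * c * g⁻¹) = g * (g⁻¹ * a * g * c) * g⁻¹ := by group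
      _ = g * (c * (g⁻¹ * a * g)) * g⁻¹ := h
      _ = _ := by group) hne
  refine ⟨⟨fun a b => ?_⟩⟩
  obtain ⟨c, hc, hcb⟩ : (b : G) ∈ (center D.N).map D.N.subtype := heq.symm ▸ b.2
  rw [show b = c from Subtype.ext hcb.symm]
  exact Subgroup.mem_center_iff.1 hc a

end Cfsg.Agent.HalfTrans
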